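import Mathlib.RingTheory.GradedAlgebra.FiniteType
import Mathlib.RingTheory.GradedAlgebra.Homogeneous.Ideal
import Mathlib.RingTheory.GradedAlgebra.Noetherian

/-!
# Helper lemmas on ℕ-graded algebras (helper7)

* `adjoin_eq_top_of_irrelevant_eq_span`: if the irrelevant ideal is generated by a set `E` of
  homogeneous elements of positive degree, then `E` generates `A` as an `𝒜 0`-algebra.
* `irrelevant_eq_span_of_adjoin_eq_top`: the converse.
* `finiteType_of_irrelevant_fg`, `irrelevant_fg_of_finiteType`.
-/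

set_option autoImplicit false
universe u

namespace Groth.Agent.Lib.Helper7

open DirectSum

variable {R A : Type u} [CommRing R] [CommRing A] [Algebra R A] (𝒜 : ℕ → Submodule R A)
  [GradedAlgebra 𝒜]

theorem adjoin_eq_top_of_irrelevant_eq_span (E : Set A) (hE : ∀ e ∈ E, ∃ d : ℕ, 0 < d ∧ e ∈ 𝒜 d)
    (h : (HomogeneousIdeal.irrelevant 𝒜).toIdeal = Ideal.span E) :
    Algebra.adjoin (𝒜 0) E = ⊤ := by
  classical
  set B := Algebra.adjoin (𝒜 0) E with hB
  have key : ∀ n, ∀ a ∈ 𝒜 n, a ∈ B := by
    intro n
    induction n using Nat.strong_induction_on with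
    | _ n ih =>
      intro a ha
      rcases Nat.eq_zero_or_pos n with rfl | hn
      · exact Subalgebra.algebraMap_mem B (⟨a, ha⟩ : 𝒜 0)
      · have ha' : a ∈ Ideal.span E := h ▸ HomogeneousIdeal.mem_irrelevant_of_mem 𝒜 hn ha
        have Q : ∀ x ∈ Ideal.span E, ∀ r : A, (decompose 𝒜 (r * x) n : A) ∈ B := by
          intro x hx
          induction hx using Submodule.span_induction with
          | mem e he =>
            intro r
            obtain ⟨d, hd, hed⟩ := hE e he
            rw [DirectSum.coe_decompose_mul_of_right_mem 𝒜 n hed]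
            split_ifs with hdn
            · refine B.mul_mem (ih _ (by omega) _ (SetLike.coe_mem _)) ?_
              exact Algebra.subset_adjoin he
            · exact B.zero_mem
          | zero => intro r; simp
          | add x y _ _ hx hy =>
            intro r
            rw [mul_add, decompose_add, add_apply, Submodule.coe_add]
            exact B.add_mem (hx r) (hy r)
          | smul s x _ hx =>
            intro r
            rw [smul_eq_mul, ← mul_assoc]
            exact hx (r * s)
        have := Q a ha' 1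
        rwa [one_mul, decompose_of_mem_same 𝒜 ha] at this
  rw [eq_top_iff]
  intro x _
  rw [← DirectSum.sum_support_decompose 𝒜 x]
  exact B.sum_mem fun n _ ↦ key n _ (SetLike.coe_mem _)

theorem irrelevant_eq_span_of_adjoin_eq_top (E : Set A)
    (hE : ∀ e ∈ E, ∃ d : ℕ, 0 < d ∧ e ∈ 𝒜 d)
    (h : Algebra.adjoin (𝒜 0) E = ⊤) :
    (HomogeneousIdeal.irrelevant 𝒜).toIdeal = Ideal.span E := by
  classical
  apply le_antisymm
  · intro a ha
    have P : ∀ x ∈ Algebra.adjoin (𝒜 0) E,
        x - GradedRing.projZeroRingHom 𝒜 x ∈ Ideal.span E := by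
      intro x hx
      induction hx using Algebra.adjoin_induction with
      | mem x hx =>
        obtain ⟨d, hd, hxd⟩ := hE x hx
        rw [GradedRing.projZeroRingHom_apply, decompose_of_mem_ne 𝒜 hxd hd.ne', sub_zero]
        exact Ideal.subset_span hx
      | algebraMap c =>
        rw [GradedRing.projZeroRingHom_apply]
        have : (algebraMap (𝒜 0) A c) = (c : A) := rfl
        rw [this, decompose_coe, of_eq_same, sub_self]
        exact Submodule.zero_mem _
      | add x y _ _ hx hy =>
        rw [map_add]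
        have : x + y - (GradedRing.projZeroRingHom 𝒜 x + GradedRing.projZeroRingHom 𝒜 y) =
            (x - GradedRing.projZeroRingHom 𝒜 x) + (y - GradedRing.projZeroRingHom 𝒜 y) := by ring
        rw [this]
        exact Submodule.add_mem _ hx hy
      | mul x y _ _ hx hy =>
        rw [map_mul]
        have : x * y - GradedRing.projZeroRingHom 𝒜 x * GradedRing.projZeroRingHom 𝒜 y =
            y * (x - GradedRing.projZeroRingHom 𝒜 x) +
              GradedRing.projZeroRingHom 𝒜 x * (y - GradedRing.projZeroRingHom 𝒜 y) := by ring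
        rw [this]
        exact Submodule.add_mem _ (Ideal.mul_mem_left _ _ hx) (Ideal.mul_mem_left _ _ hy)
    have := P a (h ▸ Algebra.mem_top)
    have ha0 : GradedRing.projZeroRingHom 𝒜 a = 0 := ha
    rwa [ha0, sub_zero] at this
  · rw [Ideal.span_le]
    intro e he
    obtain ⟨d, hd, hed⟩ := hE e he
    exact HomogeneousIdeal.mem_irrelevant_of_mem 𝒜 hd hed

theorem irrelevant_fg_of_finiteType [Algebra.FiniteType (𝒜 0) A] :
    (HomogeneousIdeal.irrelevant 𝒜).toIdeal.FG := by
  obtain ⟨s, hs, hs'⟩ := GradedAlgebra.exists_finset_adjoin_eq_top_and_homogeneous_ne_zero 𝒜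
  refine ⟨s, ?_⟩
  refine (irrelevant_eq_span_of_adjoin_eq_top 𝒜 (s : Set A) ?_ hs).symm
  intro e he
  obtain ⟨n, hn, hen⟩ := hs' e he
  exact ⟨n, Nat.pos_of_ne_zero hn, hen⟩

theorem finiteType_of_irrelevant_fg (h : (HomogeneousIdeal.irrelevant 𝒜).toIdeal.FG) :
    Algebra.FiniteType (𝒜 0) A := by
  classical
  obtain ⟨S, hS⟩ := h
  let E : Finset A := S.biUnion fun s ↦ (decompose 𝒜 s).support.image fun n ↦ (decompose 𝒜 s n : A)
  have hSirr : ∀ s ∈ S, s ∈ (HomogeneousIdeal.irrelevant 𝒜).toIdeal := fun s hs ↦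
    hS ▸ Ideal.subset_span hs
  have hE : ∀ e ∈ (E : Set A), ∃ d : ℕ, 0 < d ∧ e ∈ 𝒜 d := by
    intro e he
    simp only [E, Finset.coe_biUnion, Finset.coe_image, Set.mem_iUnion, Set.mem_image,
      Finset.mem_coe] at he
    obtain ⟨s, hs, n, -, rfl⟩ := he
    rcases Nat.eq_zero_or_pos n with rfl | hn
    · refine ⟨1, one_pos, ?_⟩
      have : (decompose 𝒜 s 0 : A) = 0 := hSirr s hs
      rw [this]; exact Submodule.zero_mem _
    · exact ⟨n, hn, SetLike.coe_mem _⟩
  have hspan : (HomogeneousIdeal.irrelevant 𝒜).toIdeal = Ideal.span (E : Set A) := by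
    apply le_antisymm
    · rw [← hS, Ideal.span_le]
      intro s hs
      rw [← DirectSum.sum_support_decompose 𝒜 s]
      refine Ideal.sum_mem _ fun n hn ↦ Ideal.subset_span ?_
      simp only [E, Finset.coe_biUnion, Finset.coe_image, Set.mem_iUnion, Set.mem_image,
        Finset.mem_coe]
      exact ⟨s, hs, n, hn, rfl⟩
    · rw [Ideal.span_le]
      intro e he
      obtain ⟨d, hd, hed⟩ := hE e he
      exact HomogeneousIdeal.mem_irrelevant_of_mem 𝒜 hd hed
  have := adjoin_eq_top_of_irrelevant_eq_span 𝒜 (E : Set A) hE hspan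
  exact ⟨⟨E, this⟩⟩

end Groth.Agent.Lib.Helper7
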